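import Mathlib

/-! # Small ideal-power lemmas for the LVCorr batch -/

namespace Groth.Agent.H27LV

universe u v

variable {A : Type u} [CommRing A]

theorem sup_pow_le_pow_succ (I J L : Ideal A) (hJ : J ≤ I) (hL : L ≤ I) (m n : ℕ)
    (hm : J ^ m ≤ I ^ (m + 1)) (hn : L ^ n ≤ I ^ (n + 1)) :
    (J ⊔ L) ^ (m + n) ≤ I ^ (m + n + 1) := by
  rw [← Ideal.add_eq_sup, add_pow, Ideal.sum_eq_sup, Finset.sup_le_iff]
  intro i hi
  rw [Finset.mem_range] at hi
  refine le_trans Ideal.mul_le_left ?_
  rcases le_or_gt m i with h | h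
  · calc J ^ i * L ^ (m + n - i) = J ^ m * J ^ (i - m) * L ^ (m + n - i) := by
          rw [← pow_add, Nat.add_sub_cancel' h]
      _ ≤ I ^ (m + 1) * I ^ (i - m) * I ^ (m + n - i) :=
          Ideal.mul_mono (Ideal.mul_mono hm (Ideal.pow_right_mono hJ _)) (Ideal.pow_right_mono hL _)
      _ = I ^ (m + n + 1) := by rw [← pow_add, ← pow_add]; congr 1; omega
  · calc J ^ i * L ^ (m + n - i) = J ^ i * (L ^ n * L ^ (m - i)) := by
          rw [← pow_add]; congr 2; omega
      _ ≤ I ^ i * (I ^ (n + 1) * I ^ (m - i)) :=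
          Ideal.mul_mono (Ideal.pow_right_mono hJ _) (Ideal.mul_mono hn (Ideal.pow_right_mono hL _))
      _ = I ^ (m + n + 1) := by rw [← pow_add, ← pow_add]; congr 1; omega

theorem exists_pow_le_pow_succ_iff {A' : Type u} [CommRing A'] (φ : A' →+* A) (I' : Ideal A')
    (hI' : I'.FG) (I : Ideal A) (hle : I'.map φ ≤ I) :
    (∃ k : ℕ, (I' ^ k).map φ ≤ I ^ (k + 1)) ↔
      ∀ n : ℕ, 1 ≤ n → ∀ a ∈ I' ^ n, ∃ k : ℕ, 1 ≤ k ∧ φ a ^ k ∈ I ^ (n * k + 1) := by
  constructor
  · rintro ⟨k, hk⟩ n hn a ha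
    have hk' : (I' ^ (k + 1)).map φ ≤ I ^ (k + 1 + 1) := by
      rw [pow_succ, Ideal.map_mul, pow_succ]
      exact Ideal.mul_mono hk hle
    refine ⟨k + 1, Nat.succ_pos k, ?_⟩
    have : φ a ^ (k + 1) ∈ ((I' ^ n) ^ (k + 1)).map φ := by
      rw [← map_pow]; exact Ideal.mem_map_of_mem _ (Ideal.pow_mem_pow ha _)
    rw [← pow_mul, mul_comm n, pow_mul, Ideal.map_pow] at this
    refine Ideal.pow_le_pow_right ?_ ((Ideal.pow_right_mono hk' n) this |> fun h => by rwa [← pow_mul] at h)
    nlinarith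
  · intro h
    classical
    obtain ⟨s, rfl⟩ := hI'
    suffices ∀ t : Finset A', t ⊆ s → ∃ K, ((Ideal.span (t : Set A')).map φ) ^ K ≤ I ^ (K + 1) ∨
        (t = ∅) by
      rcases s.eq_empty_or_nonempty with rfl | hne
      · exact ⟨1, by simp⟩
      · obtain ⟨K, hK | hK⟩ := this s subset_rfl
        · exact ⟨K, by rwa [Ideal.map_pow]⟩
        · exact absurd hK hne.ne_empty
    intro t
    induction t using Finset.induction_on with
    | empty => exact fun _ => ⟨0, Or.inr rfl⟩
    | insert b t hbt ih =>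
      intro hsub
      rw [Finset.insert_subset_iff] at hsub
      obtain ⟨k, -, hk⟩ := h 1 le_rfl b (by rw [pow_one]; exact Ideal.subset_span hsub.1)
      rw [one_mul] at hk
      have hb : Ideal.span {φ b} ≤ I := (Ideal.span_singleton_le_iff_mem _).mpr
        (hle (Ideal.mem_map_of_mem _ (Ideal.subset_span hsub.1)))
      have hbk : Ideal.span {φ b} ^ k ≤ I ^ (k + 1) := by
        rwa [Ideal.span_singleton_pow, Ideal.span_singleton_le_iff_mem]
      have hsplit : (Ideal.span ((insert b t : Finset A') : Set A')).map φ =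
          (Ideal.span (t : Set A')).map φ ⊔ Ideal.span {φ b} := by
        rw [Finset.coe_insert, Ideal.span_insert, Ideal.map_sup, Ideal.map_span, Set.image_singleton,
          sup_comm]
      rw [hsplit]
      obtain ⟨K, hK | hK⟩ := ih hsub.2
      · have ht : (Ideal.span (t : Set A')).map φ ≤ I :=
          le_trans (Ideal.map_mono (Ideal.span_mono (by exact_mod_cast hsub.2))) hle
        exact ⟨K + k, Or.inl (sup_pow_le_pow_succ I _ _ ht hb K k hK hbk)⟩
      · subst hK
        exact ⟨k, Or.inl (by simpa using hbk)⟩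

end Groth.Agent.H27LV

namespace Groth.Agent.H27LV

universe u'

theorem exists_basicOpen_mul_subset {A : Type u'} [CommRing A] [IsDomain A] [IsNoetherianRing A]
    (z : A) (hz : (Ideal.span {z}).radical.IsPrime) (V : Set (PrimeSpectrum A)) (hV : IsOpen V)
    (hVz : V ⊆ (PrimeSpectrum.basicOpen z : Set (PrimeSpectrum A))) (hne : V.Nonempty) :
    ∃ x : A, x ∉ (Ideal.span {z}).radical ∧
      ((PrimeSpectrum.basicOpen (x * z) : TopologicalSpace.Opens (PrimeSpectrum A)) :
        Set (PrimeSpectrum A)) ⊆ V := by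
  classical
  obtain ⟨J, hJ⟩ := (PrimeSpectrum.isClosed_iff_zeroLocus_ideal _).mp hV.isClosed_compl
  obtain ⟨v, hv⟩ := hne
  have hvz : z ∉ v.asIdeal := hVz hv
  have hz0 : z ≠ 0 := fun h => hvz (h ▸ zero_mem _)
  set P := (Ideal.span {z}).radical with hP
  have hzP : z ∈ P := Ideal.le_radical (Ideal.mem_span_singleton_self z)
  -- minimal primes of `J` not containing `z` are not contained in `P`
  have key : ∀ Q ∈ J.minimalPrimes, z ∉ Q → ∃ x ∈ Q, x ∉ P := by
    intro Q hQ hzQ
    by_contra hcon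
    push Not at hcon
    haveI := hQ.1.1
    have hPh : P.height ≤ 1 := by
      refine Ideal.height_le_one_of_isPrincipal_of_mem_minimalPrimes (Ideal.span {z}) P ?_
      rw [← Ideal.radical_minimalPrimes]
      simp [hP, Ideal.minimalPrimes_eq_subsingleton_self]
    have hlt : Q < P := lt_of_le_of_ne hcon (fun h => hzQ (h ▸ hzP))
    haveI : P.IsPrime := hz
    have hQ0 : Q = ⊥ := by
      by_contra hb
      have h1 : (1 : ℕ∞) ≤ Q.height := by
        rw [Order.one_le_iff_pos, pos_iff_ne_zero]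
        intro h0
        exact hb (Ideal.height_eq_zero_iff_eq_bot.mp h0)
      have h2 := Ideal.height_strict_mono_of_isPrime_of_isPrime hlt
      exact absurd (lt_of_le_of_lt h1 h2) (not_lt.mpr hPh)
    have : J = ⊥ := le_bot_iff.mp (hQ0 ▸ hQ.1.2)
    have hv' : v ∈ Vᶜ := by rw [hJ, this]; simp
    exact hv' hv
  have hfin := (Ideal.finite_minimalPrimes_of_isNoetherianRing A J).subset
    (Set.sep_subset J.minimalPrimes fun Q => z ∉ Q)
  choose f hf hfP using key
  let S := hfin.toFinset.attach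
  refine ⟨∏ Q ∈ S, f Q.1 (hfin.mem_toFinset.mp Q.2).1 (hfin.mem_toFinset.mp Q.2).2, ?_, ?_⟩
  · intro hmem
    haveI : P.IsPrime := hz
    obtain ⟨Q, -, hQ⟩ := (Ideal.IsPrime.prod_mem_iff).mp hmem
    exact hfP _ _ _ hQ
  · intro q hq
    by_contra hqV
    have hqJ : J ≤ q.asIdeal := by
      have : q ∈ Vᶜ := hqV
      rw [hJ] at this; exact this
    obtain ⟨Q, hQ, hQq⟩ := Ideal.exists_minimalPrimes_le hqJ
    apply hq
    by_cases hzQ : z ∈ Q
    · exact Ideal.mul_mem_left _ _ (hQq hzQ)
    · refine Ideal.mul_mem_right _ _ (hQq ?_)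
      have hQS : Q ∈ hfin.toFinset := hfin.mem_toFinset.mpr ⟨hQ, hzQ⟩
      exact Ideal.prod_mem Q (Finset.mem_attach _ ⟨Q, hQS⟩) (hf Q _ _)

universe u v x

theorem invariants_tprod_trivial {k : Type u'} [Field k] {G : Type u} [Group G]
    {V : Type v} {W : Type x} [AddCommGroup V] [Module k V] [AddCommGroup W] [Module k W]
    (ρ : Representation k G V) :
    (ρ.tprod (Representation.trivial k G W)).invariants =
      LinearMap.range (TensorProduct.map ρ.invariants.subtype (LinearMap.id : W →ₗ[k] W)) := by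
  classical
  apply le_antisymm
  · intro t ht
    let b := Module.Basis.ofVectorSpace k W
    let e := TensorProduct.equivFinsuppOfBasisRight (M := V) b
    have hc : ∀ i, e t i ∈ ρ.invariants := by
      intro i g
      have key : ∀ s, e ((ρ.tprod (Representation.trivial k G W)) g s) i = ρ g (e s i) := fun s => by
        induction s using TensorProduct.induction_on with
        | zero => simp
        | tmul v w => simp [e]
        | add x y hx hy => rw [map_add, map_add, map_add, Finsupp.add_apply, hx, hy, Finsupp.add_apply, map_add]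
      rw [← key, ht g]
    refine ⟨(e t).support.sum fun i => (⟨e t i, hc i⟩ : ρ.invariants) ⊗ₜ b i, ?_⟩
    apply e.injective
    ext j
    simp [e, Finsupp.finsetSum_apply, Finsupp.single_apply]
    exact fun h => h.symm
  · rintro _ ⟨s, rfl⟩ g
    induction s using TensorProduct.induction_on with
    | zero => simp
    | tmul v w => simp [v.2 g]
    | add x y hx hy => rw [map_add, map_add, hx, hy]

end Groth.Agent.H27LV
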