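import Mathlib

/-! # Free modules over dual numbers; saturation of invariants -/

namespace Groth.Agent.H27LV

open DualNumber Pointwise TrivSqZeroExt

universe u v

variable {R : Type u} [CommRing R] {M : Type v}
  [AddCommGroup M] [Module R[ε] M] [Module R M] [IsScalarTower R R[ε] M]

theorem dual_decomp (z : R[ε]) (m : M) :
    z • m = z.fst • m + z.snd • ((ε : R[ε]) • m) := by
  conv_lhs => rw [← TrivSqZeroExt.inl_fst_add_inr_snd_eq z]
  rw [add_smul]
  congr 1
  · rw [← TrivSqZeroExt.algebraMap_eq_inl, algebraMap_smul]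
  · rw [DualNumber.inr_eq_smul_eps, smul_assoc]

theorem mk_sum {ι : Type*} (E : Submodule R[ε] M) (s : Finset ι) (f : ι → M) :
    Submodule.Quotient.mk (p := E) (∑ i ∈ s, f i) = ∑ i ∈ s, Submodule.Quotient.mk (p := E) (f i) :=
  map_sum E.mkQ f s

theorem eps_smul_top_iff {x : M} :
    x ∈ ((ε : R[ε]) • (⊤ : Submodule R[ε] M)) ↔ ∃ m, (ε : R[ε]) • m = x := by
  rw [← SetLike.mem_coe, Submodule.coe_pointwise_smul, Set.mem_smul_set]
  simp

theorem nonempty_basis_dualNumber_iff (r : ℕ) :
    Nonempty (Module.Basis (Fin r) R[ε] M) ↔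
      (Nonempty (Module.Basis (Fin r) R (M ⧸ ((ε : R[ε]) • (⊤ : Submodule R[ε] M)))) ∧
        Nonempty (Module.Basis (Fin r) R (((ε : R[ε]) • (⊤ : Submodule R[ε] M)).restrictScalars R))) := by
  classical
  set E := ((ε : R[ε]) • (⊤ : Submodule R[ε] M)) with hE
  constructor
  · rintro ⟨b⟩
    have hcoef : ∀ (m : M) i, (b.repr ((ε : R[ε]) • m) i).fst = 0 := fun m i => by
      simp [DualNumber.fst_eps]
    constructor
    · let f : (Fin r → R) →ₗ[R] M ⧸ E := Fintype.linearCombination R (fun i => Submodule.Quotient.mk (b i))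
      refine ⟨Module.Basis.ofEquivFun (LinearEquiv.ofBijective f ⟨?_, ?_⟩).symm⟩
      · rw [injective_iff_map_eq_zero]
        intro a ha
        have ha' : (∑ i, a i • b i) ∈ E := by
          rw [← Submodule.Quotient.mk_eq_zero]
          simpa [f, Fintype.linearCombination_apply, mk_sum] using ha
        obtain ⟨m, hm⟩ := eps_smul_top_iff.mp ha'
        ext i
        have h2 := hcoef m i
        rw [hm] at h2
        simpa [← algebraMap_smul R[ε] (a _) (b _), b.repr_self, Finsupp.single_apply,
          TrivSqZeroExt.algebraMap_eq_inl] using h2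
      · intro q
        obtain ⟨m, rfl⟩ := Submodule.Quotient.mk_surjective E q
        refine ⟨fun i => (b.repr m i).fst, ?_⟩
        conv_rhs => rw [← b.sum_repr m]
        simp only [f, Fintype.linearCombination_apply, mk_sum]
        refine Finset.sum_congr rfl fun i _ => ?_
        rw [← Submodule.Quotient.mk_smul, Submodule.Quotient.eq, dual_decomp (b.repr m i), sub_add_cancel_left]
        exact neg_mem (Submodule.smul_of_tower_mem E _ (eps_smul_top_iff.mpr ⟨_, rfl⟩))
    · let f : (Fin r → R) →ₗ[R] E.restrictScalars R :=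
        Fintype.linearCombination R (fun i => ⟨(ε : R[ε]) • b i, eps_smul_top_iff.mpr ⟨_, rfl⟩⟩)
      refine ⟨Module.Basis.ofEquivFun (LinearEquiv.ofBijective f ⟨?_, ?_⟩).symm⟩
      · rw [injective_iff_map_eq_zero]
        intro a ha
        have ha' : (∑ i, a i • ((ε : R[ε]) • b i)) = 0 := by
          simpa [f, Fintype.linearCombination_apply] using congr_arg Subtype.val ha
        ext i
        have h2 := congr_arg (fun x => (b.repr x i).snd) ha'
        simpa [← algebraMap_smul R[ε] (a _) _, smul_smul, b.repr_self, Finsupp.single_apply,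
          TrivSqZeroExt.algebraMap_eq_inl] using h2
      · rintro ⟨x, hx⟩
        obtain ⟨m, rfl⟩ := eps_smul_top_iff.mp hx
        refine ⟨fun i => (b.repr m i).fst, Subtype.ext ?_⟩
        simp only [f, Fintype.linearCombination_apply, Submodule.coe_sum, Submodule.coe_smul]
        conv_rhs => rw [← b.sum_repr m, Finset.smul_sum]
        refine Finset.sum_congr rfl fun i _ => ?_
        rw [dual_decomp (b.repr m i), smul_add, smul_comm (b.repr m i).snd, smul_smul (ε : R[ε]) ε,
          DualNumber.eps_mul_eps, zero_smul, add_zero, smul_comm]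
  · rintro ⟨⟨bq⟩, ⟨be⟩⟩
    choose v hv using fun i => Submodule.Quotient.mk_surjective E (bq i)
    have hspan : ∀ m : M, m - ∑ i, bq.repr (Submodule.Quotient.mk m) i • v i ∈ E := by
      intro m
      rw [← Submodule.Quotient.eq, mk_sum]
      simp only [Submodule.Quotient.mk_smul, hv, bq.sum_repr]
    let g : (Fin r → R) →ₗ[R] E.restrictScalars R :=
      Fintype.linearCombination R (fun i => ⟨(ε : R[ε]) • v i, eps_smul_top_iff.mpr ⟨_, rfl⟩⟩)
    have hgval : ∀ a, (g a : M) = (ε : R[ε]) • ∑ i, a i • v i := fun a => by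
      simp [g, Fintype.linearCombination_apply, Finset.smul_sum, smul_comm _ (ε : R[ε])]
    have hgs : Function.Surjective g := by
      rintro ⟨x, hx⟩
      obtain ⟨m, rfl⟩ := eps_smul_top_iff.mp hx
      refine ⟨fun i => bq.repr (Submodule.Quotient.mk m) i, Subtype.ext ?_⟩
      obtain ⟨m', hm'⟩ := eps_smul_top_iff.mp (hspan m)
      rw [hgval]
      show _ = (ε : R[ε]) • m
      conv_rhs => rw [eq_add_of_sub_eq hm'.symm, smul_add, smul_smul, DualNumber.eps_mul_eps, zero_smul, zero_add]
    have hgi : Function.Injective g := by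
      let e := be.equivFun
      have := OrzechProperty.injective_of_surjective_endomorphism (e.toLinearMap ∘ₗ g)
        (e.surjective.comp hgs)
      exact fun x y h => this (congr_arg e h)
    let φ : (Fin r → R[ε]) →ₗ[R[ε]] M := Fintype.linearCombination R[ε] v
    have hφ : ∀ z, φ z = (∑ i, (z i).fst • v i) + (g fun i => (z i).snd : M) := fun z => by
      simp only [φ, Fintype.linearCombination_apply, hgval, Finset.smul_sum, ← Finset.sum_add_distrib]
      exact Finset.sum_congr rfl fun i _ => by rw [dual_decomp (z i) (v i), smul_comm (z i).snd]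
    refine ⟨Module.Basis.ofEquivFun (LinearEquiv.ofBijective φ ⟨?_, ?_⟩).symm⟩
    · rw [injective_iff_map_eq_zero]
      intro z hz
      rw [hφ] at hz
      have h1 : (fun i => (z i).fst) = 0 := by
        have h := congr_arg (Submodule.Quotient.mk (p := E)) hz
        rw [Submodule.Quotient.mk_add, (Submodule.Quotient.mk_eq_zero E).mpr (g _).2, add_zero,
          mk_sum] at h
        simp only [Submodule.Quotient.mk_smul, hv, Submodule.Quotient.mk_zero] at h
        funext i
        have h2 := congr_arg (fun x => bq.repr x i) h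
        simpa [Finsupp.single_apply] using h2
      have h0 : ∀ i, (z i).fst = 0 := fun i => congr_fun h1 i
      simp only [h0, zero_smul, Finset.sum_const_zero, zero_add] at hz
      have h2 : (fun i => (z i).snd) = 0 := hgi (Subtype.ext (by rw [map_zero]; exact hz))
      funext i
      exact TrivSqZeroExt.ext (h0 i) (congr_fun h2 i)
    · intro m
      obtain ⟨c, hc⟩ := hgs ⟨_, hspan m⟩
      refine ⟨fun i => TrivSqZeroExt.inl (bq.repr (Submodule.Quotient.mk m) i) + TrivSqZeroExt.inr (c i), ?_⟩
      rw [hφ]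
      simp [hc]

end Groth.Agent.H27LV

namespace Groth.Agent.H27LV

open TensorProduct

universe u₁ v₁ w₁

theorem lTensor_quotient_span_injective {W : Type u₁} [CommRing W] {M : Type v₁} [AddCommGroup M]
    [Module W M] (c : W) (N : Submodule W M) (hsat : ∀ m : M, c • m ∈ N → m ∈ N) :
    Function.Injective (LinearMap.lTensor (W ⧸ Ideal.span {c}) N.subtype) := by
  rw [injective_iff_map_eq_zero]
  intro x hx
  obtain ⟨n, rfl⟩ : ∃ n : N, (Ideal.Quotient.mk (Ideal.span {c}) 1) ⊗ₜ[W] n = x := by
    obtain ⟨q, hq⟩ := Submodule.Quotient.mk_surjective _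
      (TensorProduct.quotTensorEquivQuotSMul N (Ideal.span {c}) x)
    refine ⟨q, (TensorProduct.quotTensorEquivQuotSMul N (Ideal.span {c})).injective ?_⟩
    rw [← hq]; simp
  rw [LinearMap.lTensor_tmul] at hx
  have h := congr_arg (TensorProduct.quotTensorEquivQuotSMul M (Ideal.span {c})) hx
  simp only [TensorProduct.quotTensorEquivQuotSMul_mk_tmul, one_smul, map_zero,
    Submodule.Quotient.mk_eq_zero, Submodule.subtype_apply] at h
  rw [Submodule.ideal_span_singleton_smul, ← SetLike.mem_coe, Submodule.coe_pointwise_smul,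
    Set.mem_smul_set] at h
  obtain ⟨m, -, hm⟩ := h
  have hn : n = c • (⟨m, hsat m (hm ▸ n.2)⟩ : N) := Subtype.ext hm.symm
  rw [hn, ← TensorProduct.smul_tmul]
  have : c • (Ideal.Quotient.mk (Ideal.span {c}) 1) = 0 := by
    rw [Algebra.smul_def, Ideal.Quotient.algebraMap_eq, ← map_mul, Ideal.Quotient.eq_zero_iff_mem]
    simp [Ideal.mem_span_singleton]
  rw [this, TensorProduct.zero_tmul]

end Groth.Agent.H27LV
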