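import Mathlib

/-! # Idempotent powers of ideal sheaves -/

namespace Groth.Agent.H27LV

open AlgebraicGeometry

universe u

theorem exists_idem {R : Type u} [CommRing R] [IsNoetherianRing R] (J : Ideal R) (k : ℕ)
    (h : J ^ k = J ^ (k + 1)) (hk : k ≠ 0) :
    ∃ e : R, IsIdempotentElem e ∧ e ∈ J ∧ J ^ k = Ideal.span {e} := by
  have hid : IsIdempotentElem (J ^ k) := by
    have key : ∀ j, J ^ (k + j) = J ^ k := by
      intro j
      induction j with
      | zero => rfl
      | succ j ih => rw [← add_assoc, pow_succ, ih, ← pow_succ, ← h]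
    show J ^ k * J ^ k = J ^ k
    rw [← pow_add, key]
  obtain ⟨e, he, heq⟩ := (Ideal.isIdempotentElem_iff_of_fg _ (IsNoetherian.noetherian _)).mp hid
  exact ⟨e, he, Ideal.pow_le_self hk (heq ▸ Ideal.mem_span_singleton_self e), heq⟩

theorem idealSheaf_pow_eq_bot (X : Scheme.{u}) [AlgebraicGeometry.IsNoetherian X]
    [ConnectedSpace X] (I : X.IdealSheafData) (hI : I ≠ ⊤) (k : ℕ)
    (h : I ^ k = I ^ (k + 1)) : I ^ k = ⊥ := by
  rcases eq_or_ne k 0 with rfl | hk
  · refine absurd ?_ hI
    ext U : 2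
    have := congr_arg (fun J : X.IdealSheafData => J.ideal U) h
    simpa [Scheme.IdealSheafData.ideal_pow] using this.symm
  have key : ∀ U : X.affineOpens, ∃ e : Γ(X, U.1), IsIdempotentElem e ∧
      I.ideal U ^ k = Ideal.span {e} ∧
      ∀ x ∈ U.1, (x ∈ I.support ↔ x ∉ X.basicOpen e) := by
    intro U
    haveI : IsNoetherianRing Γ(X, U.1) := IsLocallyNoetherian.component_noetherian U
    have hU := congr_arg (fun J : X.IdealSheafData => J.ideal U) h
    simp only [Scheme.IdealSheafData.ideal_pow, Pi.pow_apply] at hU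
    obtain ⟨e, he, heJ, heq⟩ := exists_idem (I.ideal U) k hU hk
    refine ⟨e, he, heq, fun x hx => ?_⟩
    rw [Scheme.IdealSheafData.mem_support_iff_of_mem hx, Scheme.mem_zeroLocus_iff]
    refine ⟨fun hall => hall e heJ, fun hne f hf hxf => hne ?_⟩
    obtain ⟨c, hc⟩ := Ideal.mem_span_singleton'.mp (heq ▸ Ideal.pow_mem_pow hf k)
    have : x ∈ X.basicOpen (f ^ k) := by rwa [X.basicOpen_pow f (Nat.pos_of_ne_zero hk)]
    rw [← hc, Scheme.basicOpen_mul] at this
    exact this.2
  have hop : IsOpen (I.support : Set X) := by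
    rw [isOpen_iff_forall_mem_open]
    intro x hx
    obtain ⟨U, hU, hxU, -⟩ :=
      (X.isBasis_affineOpens).exists_subset_of_mem_open (Set.mem_univ x) isOpen_univ
    obtain ⟨V, rfl⟩ : ∃ V : X.Opens, (V : Set X) = U := by
      obtain ⟨V, hV, rfl⟩ := hU; exact ⟨V, rfl⟩
    have hV : IsAffineOpen V := by
      obtain ⟨W, hW, hWV⟩ := hU
      rwa [SetLike.coe_injective hWV] at hW
    obtain ⟨e, he, -, hsupp⟩ := key ⟨V, hV⟩
    change ∀ x ∈ V, _ at hsupp
    have hsum : Ideal.span ({e, 1 - e} : Set Γ(X, V)) = ⊤ := by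
      rw [Ideal.eq_top_iff_one]
      have := Ideal.add_mem _ (Ideal.subset_span (Set.mem_insert e {1 - e}))
        (Ideal.subset_span (Set.mem_insert_of_mem e (Set.mem_singleton (1 - e))))
      simpa using this
    have hdisj : X.basicOpen e ⊓ X.basicOpen (1 - e) = ⊥ := by
      rw [← Scheme.basicOpen_mul, he.mul_one_sub_self, Scheme.basicOpen_zero]
    have hcov := hV.iSup_basicOpen_eq_self_iff.mpr hsum
    refine ⟨X.basicOpen (1 - e), fun y hy => (hsupp y (X.basicOpen_le _ hy)).mpr (fun hye => ?_),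
      (X.basicOpen _).isOpen, ?_⟩
    · have : y ∈ X.basicOpen e ⊓ X.basicOpen (1 - e) := ⟨hye, hy⟩
      rw [hdisj] at this; exact this
    · have hxV : x ∈ ⨆ g : ({e, 1 - e} : Set Γ(X, V)), X.basicOpen g.1 := by rw [hcov]; exact hxU
      obtain ⟨⟨g, hg⟩, hxg⟩ := TopologicalSpace.Opens.mem_iSup.mp hxV
      rcases hg with rfl | rfl
      · exact absurd hxg ((hsupp x hxU).mp hx)
      · exact hxg
  have huniv : (I.support : Set X) = Set.univ :=
    IsClopen.eq_univ ⟨I.support.isClosed, hop⟩ (by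
      rw [Set.nonempty_iff_ne_empty]
      intro he
      exact hI ((Scheme.IdealSheafData.support_eq_bot_iff _).mp (SetLike.coe_injective (by simpa using he))))
  ext U : 2
  obtain ⟨e, he, heq, hsupp⟩ := key U
  have hb : X.basicOpen e = ⊥ := by
    rw [eq_bot_iff]
    intro x hx
    exact absurd hx ((hsupp x (X.basicOpen_le _ hx)).mp (by
      show x ∈ (I.support : Set X)
      rw [huniv]; trivial))
  have : e = 0 := by
    have hnil : IsNilpotent e := by
      rw [← PrimeSpectrum.basicOpen_eq_bot_iff, ← U.2.fromSpec_preimage_basicOpen e, hb]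
      rfl
    obtain ⟨n, hn⟩ := hnil
    rcases n with _ | n
    · rw [pow_zero] at hn; rw [← mul_one e, hn, mul_zero]
    · rwa [he.pow_succ_eq] at hn
  simp [Scheme.IdealSheafData.ideal_pow, heq, this]

end Groth.Agent.H27LV
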