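import Mathlib

/-! # Invariant lifts of `p^n`-th powers -/

namespace Groth.Agent.H27LV

universe u v w

theorem exists_invariant_lift {A : Type v} [CommRing A] {G : Type w} [Group G] [Finite G]
    [MulSemiringAction G A] (I : Ideal A) (hI : ∀ (g : G) (a : A), a ∈ I → g • a ∈ I) (u : A)
    (hu : ∀ g : G, g • u - u ∈ I) (H : Subgroup G) (c : A) (hc : ∀ g : G, g • c = c)
    (hcm : c * (H.index : A) = 1) :
    ∃ a : A, (∀ g : G, g • a = a) ∧
      Ideal.Quotient.mk I a = Ideal.Quotient.mk I u ^ Nat.card H := by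
  classical
  cases nonempty_fintype G
  have hsub : ∀ (g : G) (x : A), Ideal.Quotient.mk I x = Ideal.Quotient.mk I u ^ Nat.card H →
      Ideal.Quotient.mk I (g • x) = Ideal.Quotient.mk I u ^ Nat.card H := by
    intro g x hx
    rw [← map_pow, Ideal.Quotient.eq] at hx ⊢
    have h1 : g • (u ^ Nat.card H) - u ^ Nat.card H ∈ I := by
      rw [smul_pow', ← Ideal.Quotient.eq, map_pow, map_pow, Ideal.Quotient.eq.mpr (hu g)]
    have := I.add_mem (hI g _ hx) h1
    simpa [smul_sub] using this
  let N : A := ∏ h : H, (h : G) • u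
  have hN : Ideal.Quotient.mk I N = Ideal.Quotient.mk I u ^ Nat.card H := by
    simp [N, map_prod, Ideal.Quotient.eq.mpr (hu _), Nat.card_eq_fintype_card]
  have hNH : ∀ h : G, h ∈ H → h • N = N := by
    intro h hh
    show h • (∏ x : H, (x : G) • u) = ∏ x : H, (x : G) • u
    rw [Finset.smul_prod']
    refine Fintype.prod_equiv (Equiv.mulLeft (⟨h, hh⟩ : H)) _ _ (fun x => ?_)
    simp [mul_smul]
  let F : G ⧸ H → A := Quotient.lift (fun g => g • N) (fun a b hab => by
    have hab : a⁻¹ * b ∈ H := QuotientGroup.leftRel_apply.mp hab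
    show a • N = b • N
    conv_rhs => rw [← mul_inv_cancel_left a b, mul_smul, hNH _ hab])
  have hF : ∀ (g : G) q, g • F q = F (g • q) := by
    intro g q
    induction q using QuotientGroup.induction_on with
    | H x => show g • (x • N) = (g * x) • N; rw [mul_smul]
  have hFm : ∀ q, Ideal.Quotient.mk I (F q) = Ideal.Quotient.mk I u ^ Nat.card H := by
    intro q
    induction q using QuotientGroup.induction_on with
    | H x => exact hsub x N hN
  refine ⟨c * ∑ q : G ⧸ H, F q, fun g => ?_, ?_⟩
  · rw [smul_mul', hc, Finset.smul_sum]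
    congr 1
    exact Fintype.sum_equiv (MulAction.toPerm g) _ _ (fun q => hF g q)
  · rw [map_mul, map_sum]
    simp only [hFm, Finset.sum_const, Finset.card_univ, nsmul_eq_mul]
    rw [← Nat.card_eq_fintype_card, ← Subgroup.index_eq_card, ← map_natCast (Ideal.Quotient.mk I), ← mul_assoc, ← map_mul, hcm,
      map_one, one_mul]

theorem exists_invariant_lift_pow_char {k : Type u} [Field k]
    {A : Type v} [CommRing A] [Algebra k A] {G : Type w} [Group G] [Finite G]
    [MulSemiringAction G A] [SMulCommClass G k A] (I : Ideal A)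
    (hI : ∀ (g : G) (a : A), a ∈ I → g • a ∈ I) (u : A) (hu : ∀ g : G, g • u - u ∈ I) :
    ∃ a : A, (∀ g : G, g • a = a) ∧
      Ideal.Quotient.mk I a =
        Ideal.Quotient.mk I u ^ (ringChar k ^ (Nat.card G).factorization (ringChar k)) := by
  classical
  set p := ringChar k with hp
  haveI : CharP k p := ringChar.charP k
  obtain ⟨H, hH, hidx⟩ : ∃ H : Subgroup G,
      Nat.card H = p ^ (Nat.card G).factorization p ∧ (H.index : k) ≠ 0 := by
    rcases CharP.char_is_prime_or_zero k p with hpp | hp0
    · haveI := Fact.mk hpp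
      let P : Sylow p G := default
      refine ⟨P, P.card_eq_multiplicity, ?_⟩
      rw [Ne, CharP.cast_eq_zero_iff k p]
      exact P.not_dvd_index
    · haveI : CharP k 0 := hp0 ▸ inferInstance
      haveI := CharP.charP_to_charZero k
      refine ⟨⊥, by simp [hp0], ?_⟩
      rw [Nat.cast_ne_zero, Subgroup.index_bot]
      exact Nat.card_pos.ne'
  obtain ⟨a, ha, hau⟩ := exists_invariant_lift I hI u hu H (algebraMap k A (H.index : k)⁻¹)
    (fun g => smul_algebraMap g _) (by
      rw [← map_natCast (algebraMap k A), ← map_mul, inv_mul_cancel₀ hidx, map_one])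
  exact ⟨a, ha, hH ▸ hau⟩

end Groth.Agent.H27LV
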